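import Mathlib.GroupTheory.FiniteAbelian.Basic
import Mathlib.GroupTheory.SpecificGroups.Cyclic
import Mathlib.Algebra.BigOperators.Fin

/-!
# Recognising a homocyclic group from order, exponent and number of elements of order `p`
-/

set_option autoImplicit false

namespace CfsgLib.Lie.Homocyclic

theorem homocyclic {G : Type*} [CommGroup G] [Finite G] {p : ℕ} [Fact p.Prime] {e a : ℕ}
    (he : 0 < e) (hexp : ∀ g : G, g ^ p ^ e = 1) (hcard : Nat.card G = p ^ (e * a))
    (htor : Nat.card {g : G // g ^ p = 1} ≤ p ^ a) :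
    Nonempty (G ≃* (Fin a → Multiplicative (ZMod (p ^ e)))) := by
  classical
  have hp : p.Prime := Fact.out
  obtain ⟨ι, _, n, hn1, ⟨E⟩⟩ := CommGroup.equiv_prod_multiplicative_zmod_of_finite G
  haveI : ∀ i, NeZero (n i) := fun i => ⟨by have := hn1 i; omega⟩
  have hdvd : ∀ i, ∃ k, k ≤ e ∧ n i = p ^ k := by
    intro i
    refine (Nat.dvd_prime_pow hp).1 ?_
    set x : ∀ j, Multiplicative (ZMod (n j)) := Pi.mulSingle i (Multiplicative.ofAdd 1)
    have h1 : x ^ p ^ e = 1 := by
      rw [← E.apply_symm_apply x, ← map_pow, hexp, map_one]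
    have h2 := congrFun h1 i
    simp only [Pi.pow_apply, x, Pi.mulSingle_eq_same, Pi.one_apply] at h2
    rw [← ofAdd_nsmul, nsmul_one] at h2
    exact (ZMod.natCast_eq_zero_iff _ _).1 (Multiplicative.ofAdd.injective h2)
  choose k hke hk using hdvd
  have hk1 : ∀ i, 1 ≤ k i := fun i => by
    by_contra h
    have := hn1 i
    rw [hk i, show k i = 0 by omega, pow_zero] at this
    omega
  have hι : Fintype.card ι ≤ a := by
    refine (Nat.pow_le_pow_iff_right hp.one_lt).1 (le_trans (le_of_eq ?_) htor)
    have e1 : {g : G // g ^ p = 1} ≃ ∀ i, {x : Multiplicative (ZMod (n i)) // x ^ p = 1} :=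
      (E.toEquiv.subtypeEquiv (q := fun x => ∀ i, (x i) ^ p = 1) fun g => by
        refine ⟨fun h i => ?_, fun h => E.injective ?_⟩
        · show (E g i) ^ p = 1
          rw [← Pi.pow_apply, ← map_pow, h, map_one, Pi.one_apply]
        · funext i
          rw [map_pow, map_one]
          exact h i).trans
        (Equiv.subtypePiEquivPi (p := fun i x => x ^ p = 1))
    rw [Nat.card_congr e1, Nat.card_pi, Finset.prod_congr rfl fun i _ => ?_, Finset.prod_const,
      Finset.card_univ]
    haveI : IsCyclic (Multiplicative (ZMod (n i))) := isCyclic_multiplicative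
    rw [show Nat.card {x : Multiplicative (ZMod (n i)) // x ^ p = 1} =
        Nat.card ↥(powMonoidHom p : Multiplicative (ZMod (n i)) →* _).ker from
        Nat.card_congr (Equiv.subtypeEquivRight fun x => by simp [MonoidHom.mem_ker]),
      IsCyclic.card_powMonoidHom_ker, Nat.card_congr Multiplicative.toAdd, Nat.card_zmod, hk i,
      Nat.gcd_eq_right (dvd_pow_self p (by have := hk1 i; omega))]
  have hsum : ∑ i, k i = e * a := by
    refine Nat.pow_right_injective hp.two_le ?_
    show p ^ ∑ i, k i = p ^ (e * a)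
    rw [← Finset.prod_pow_eq_pow_sum, ← hcard, Nat.card_congr E.toEquiv, Nat.card_pi]
    exact Finset.prod_congr rfl fun i _ => by rw [Nat.card_congr Multiplicative.toAdd, Nat.card_zmod, hk i]
  have hle : ∑ i, k i ≤ Fintype.card ι * e := by
    refine le_trans (Finset.sum_le_sum fun i _ => hke i) ?_
    simp
  have hιa : Fintype.card ι = a :=
    le_antisymm hι (Nat.le_of_mul_le_mul_right (by rw [mul_comm a, ← hsum]; exact hle) he)
  have hall : ∀ i, k i = e := fun i => by
    refine (Finset.sum_eq_sum_iff_of_le fun i _ => hke i).1 ?_ i (Finset.mem_univ i)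
    rw [hsum, Finset.sum_const, Finset.card_univ, hιa, smul_eq_mul, mul_comm]
  let σ : ι ≃ Fin a := (Fintype.equivFin ι).trans (finCongr hιa)
  have hn : ∀ i, n i = p ^ e := fun i => by rw [hk i, hall i]
  refine ⟨E.trans ((MulEquiv.piCongrRight fun i =>
    AddEquiv.toMultiplicative (ZMod.ringEquivCongr (hn i)).toAddEquiv).trans
    (MulEquiv.arrowCongr σ (MulEquiv.refl _)))⟩

end CfsgLib.Lie.Homocyclic
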