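import Mathlib.LinearAlgebra.Matrix.Charpoly.Eigs
import Mathlib.LinearAlgebra.Eigenspace.Zero
import Mathlib.LinearAlgebra.Eigenspace.Matrix
import Mathlib.RingTheory.Polynomial.Cyclotomic.Roots
import Mathlib.FieldTheory.Finiteness
import Mathlib.Analysis.Complex.Polynomial.Basic
import Cfsg.Agent.Lib.Lie.Chev.CoxTorus.Lin

/-!
# Eigenvalues of exact order `d` modulo a prime of integer matrices of finite order

The dimension `b` of the eigenspace is at most the multiplicity `k` of the cyclotomic factor `Φ_d`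
of the characteristic polynomial; when that factor fills everything it annihilates the matrix.
-/

set_option autoImplicit false

namespace CfsgLib.Lie.Homocyclic

open Matrix Polynomial CfsgLib.Lie.CoxTorus

variable {l : ℕ}

/-- the eigenvalues of a matrix of finite order are roots of unity -/
theorem root_pow_eq_one {R : Type*} [Field R] {n : ℕ} (M : Matrix (Fin l) (Fin l) R) (hM : M ^ n = 1)
    {μ : R} (h : M.charpoly.IsRoot μ) : μ ^ n = 1 := by
  rw [IsRoot, eval_charpoly, ← Matrix.exists_mulVec_eq_zero_iff] at h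
  obtain ⟨e, he, hev⟩ := h
  rw [sub_mulVec, sub_eq_zero, Matrix.scalar_apply, ← Matrix.smul_one_eq_diagonal, smul_mulVec,
    one_mulVec] at hev
  obtain ⟨j, hj⟩ := Function.ne_iff.1 he
  have h1 := congrFun (pow_mulVec_eigen hev.symm n) j
  rw [hM, one_mulVec, Pi.smul_apply, smul_eq_mul] at h1
  exact mul_right_cancel₀ hj (h1.symm.trans (one_mul _).symm)

/-- a polynomial whose roots are roots of another one divides a power of it -/
theorem dvd_pow_of_roots {p g : ℂ[X]} (hp : p.Monic) (hg : g.Monic)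
    (h : ∀ x : ℂ, p.IsRoot x → g.IsRoot x) : p ∣ g ^ p.natDegree := by
  classical
  have hs : p.Splits := IsAlgClosed.splits p
  refine hs.dvd_of_roots_le_roots hp.ne_zero ?_
  rw [Polynomial.roots_pow, Multiset.le_iff_count]
  intro x
  rw [Multiset.count_nsmul]
  by_cases hx : x ∈ p.roots
  · have h1 : 1 ≤ g.roots.count x := Multiset.one_le_count_iff_mem.2
      ((mem_roots hg.ne_zero).2 (h x ((mem_roots hp.ne_zero).1 hx)))
    calc p.roots.count x ≤ Multiset.card p.roots := Multiset.count_le_card _ _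
      _ ≤ p.natDegree := card_roots' p
      _ = p.natDegree * 1 := (mul_one _).symm
      _ ≤ _ := Nat.mul_le_mul_left _ h1
  · simp [Multiset.count_eq_zero_of_notMem hx]

/-- the cyclotomic part of the characteristic polynomial -/
theorem exists_split {n d : ℕ} (hd : 0 < d) (hn : 0 < n) (hdn : d ∣ n)
    (N : Matrix (Fin l) (Fin l) ℤ) (hN : N ^ n = 1) :
    ∃ (k : ℕ) (R : ℤ[X]), N.charpoly = cyclotomic d ℤ ^ k * R ∧ R.Monic ∧
      k * Nat.totient d + R.natDegree = l ∧
      R ∣ (∏ e ∈ n.divisors.erase d, cyclotomic e ℤ) ^ R.natDegree := by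
  classical
  obtain ⟨k, R, hR, hc⟩ := WfDvdMonoid.max_power_factor (N.charpoly_monic).ne_zero
    (cyclotomic.irreducible hd)
  have hRm : R.Monic := ((cyclotomic.monic d ℤ).pow k).of_mul_monic_left (hc ▸ N.charpoly_monic)
  refine ⟨k, R, hc, hRm, ?_, ?_⟩
  · have h1 := congrArg natDegree hc
    rw [Matrix.charpoly_natDegree_eq_dim, Fintype.card_fin,
      Monic.natDegree_mul ((cyclotomic.monic d ℤ).pow k) hRm, natDegree_pow, natDegree_cyclotomic] at h1
    omega
  set P := ∏ e ∈ n.divisors.erase d, cyclotomic e ℤ with hP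
  have hPm : P.Monic := monic_prod_of_monic _ _ fun e _ => cyclotomic.monic e ℤ
  have hfac : cyclotomic d ℤ * P = X ^ n - 1 := by
    rw [hP, Finset.mul_prod_erase n.divisors (fun e => cyclotomic e ℤ)
      (Nat.mem_divisors.2 ⟨hdn, hn.ne'⟩), prod_cyclotomic_eq_X_pow_sub_one hn]
  refine (map_dvd_map (Int.castRingHom ℂ) Int.cast_injective hRm).1 ?_
  rw [Polynomial.map_pow]
  have hdeg : (R.map (Int.castRingHom ℂ)).natDegree = R.natDegree := hRm.natDegree_map _
  rw [← hdeg]
  refine dvd_pow_of_roots (hRm.map _) (hPm.map _) fun x hx => ?_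
  have hroot : (N.map (Int.castRingHom ℂ)).charpoly.IsRoot x := by
    rw [Matrix.charpoly_map, hc, Polynomial.map_mul]
    exact root_mul_left_of_isRoot _ hx
  have hMn : N.map (Int.castRingHom ℂ) ^ n = 1 := by
    rw [← RingHom.mapMatrix_apply, ← map_pow, hN, map_one]
  have hxn := root_pow_eq_one _ hMn hroot
  have h1 : (cyclotomic d ℂ).eval x * (P.map (Int.castRingHom ℂ)).eval x = 0 := by
    rw [← map_cyclotomic d (Int.castRingHom ℂ), ← eval_mul, ← Polynomial.map_mul, hfac]
    simp [hxn]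
  refine (mul_eq_zero.1 h1).resolve_left fun h2 => hR ?_
  haveI : NeZero (d : ℂ) := ⟨Nat.cast_ne_zero.2 hd.ne'⟩
  have hprim : IsPrimitiveRoot x d := isRoot_cyclotomic_iff.1 h2
  rw [cyclotomic_eq_minpoly hprim hd]
  refine minpoly.isIntegrallyClosed_dvd (hprim.isIntegral hd) ?_
  rw [aeval_def, eval₂_eq_eval_map, algebraMap_int_eq]
  exact hx

/-- the eigenspace modulo `r` is bounded by the multiplicity of the cyclotomic factor -/
theorem card_eigen_le {n d r : ℕ} [Fact r.Prime] (hn : 0 < n) (hrn : ¬ r ∣ n) (hdn : d ∣ n)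
    (N : Matrix (Fin l) (Fin l) ℤ) {μ : ZMod r} (hμ : IsPrimitiveRoot μ d)
    {k : ℕ} {R : ℤ[X]} (hc : N.charpoly = cyclotomic d ℤ ^ k * R)
    (hR : R ∣ (∏ e ∈ n.divisors.erase d, cyclotomic e ℤ) ^ R.natDegree) :
    Nat.card {e : Fin l → ZMod r // red (ZMod r) N *ᵥ e = μ • e} ≤ r ^ k := by
  classical
  have hd : 0 < d := Nat.pos_of_dvd_of_pos hdn hn
  set M := red (ZMod r) N
  let φ : Module.End (ZMod r) (Fin l → ZMod r) := Matrix.toLin' M
  have he : Nat.card {e : Fin l → ZMod r // M *ᵥ e = μ • e} = Nat.card ↥(φ.eigenspace μ) :=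
    Nat.card_congr (Equiv.subtypeEquivRight fun e => by
      rw [Module.End.mem_eigenspace_iff]; rfl)
  rw [he, Module.natCard_eq_pow_finrank (K := ZMod r), Nat.card_zmod]
  refine Nat.pow_le_pow_right (Fact.out (p := r.Prime)).pos
    ((LinearMap.finrank_eigenspace_le φ μ).trans ?_)
  rw [Matrix.charpoly_toLin', show M = N.map (Int.castRingHom (ZMod r)) from rfl, Matrix.charpoly_map,
    hc, Polynomial.map_mul, Polynomial.map_pow, map_cyclotomic]
  set P := ∏ e ∈ n.divisors.erase d, cyclotomic e ℤ with hP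
  have hfac : cyclotomic d ℤ * P = X ^ n - 1 := by
    rw [hP, Finset.mul_prod_erase n.divisors (fun e => cyclotomic e ℤ)
      (Nat.mem_divisors.2 ⟨hdn, hn.ne'⟩), prod_cyclotomic_eq_X_pow_sub_one hn]
  have hsep : ((X : (ZMod r)[X]) ^ n - 1).Separable :=
    separable_X_pow_sub_C (1 : ZMod r) (fun h => hrn ((ZMod.natCast_eq_zero_iff _ _).1 h)) one_ne_zero
  have hfac' : cyclotomic d (ZMod r) * P.map (Int.castRingHom (ZMod r)) = X ^ n - 1 := by
    rw [← map_cyclotomic d (Int.castRingHom (ZMod r)), ← Polynomial.map_mul, hfac]; simp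
  have hroot : (cyclotomic d (ZMod r)).IsRoot μ := IsPrimitiveRoot.isRoot_cyclotomic hd hμ
  have hPμ : ¬ (P.map (Int.castRingHom (ZMod r))).IsRoot μ := by
    intro h
    rw [← hfac'] at hsep
    obtain ⟨a, b, hab⟩ := hsep.isCoprime
    have := congrArg (Polynomial.eval μ) hab
    simp only [eval_add, eval_mul, hroot.eq_zero, h.eq_zero, mul_zero, add_zero, eval_one] at this
    exact zero_ne_one this
  have hRμ : ¬ (R.map (Int.castRingHom (ZMod r))).IsRoot μ := fun h => by
    obtain ⟨S, hS⟩ := hR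
    have h2 := congrArg (fun f : ℤ[X] => (f.map (Int.castRingHom (ZMod r))).eval μ) hS
    simp only [Polynomial.map_pow, Polynomial.map_mul, eval_pow, eval_mul, h.eq_zero, zero_mul] at h2
    exact hPμ (pow_eq_zero_iff'.1 h2).1
  have hne : cyclotomic d (ZMod r) ^ k * R.map (Int.castRingHom (ZMod r)) ≠ 0 :=
    mul_ne_zero (pow_ne_zero _ (cyclotomic_ne_zero d _)) fun h => hRμ (by rw [h]; exact eval_zero)
  rw [rootMultiplicity_mul hne, rootMultiplicity_eq_zero hRμ, add_zero,
    ← count_roots, Polynomial.roots_pow, Multiset.count_nsmul, count_roots]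
  have hsd : (cyclotomic d (ZMod r)).Separable := (hfac' ▸ hsep).of_mul_left
  calc k * rootMultiplicity μ (cyclotomic d (ZMod r)) ≤ k * 1 :=
      Nat.mul_le_mul_left k (rootMultiplicity_le_one_of_separable hsd μ)
    _ = k := mul_one k

/-- a polynomial dividing `X ^ n - 1` with the roots of the characteristic polynomial kills the
matrix -/
theorem aeval_eq_zero {n j : ℕ} (hn : 0 < n) (N : Matrix (Fin l) (Fin l) ℤ) (hN : N ^ n = 1)
    (f : ℤ[X]) (hf : f ∣ X ^ n - 1) (hc : N.charpoly ∣ f ^ j) : aeval N f = 0 := by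
  obtain ⟨g, hg⟩ := hf
  have hsep : ((X : ℚ[X]) ^ n - 1).Separable :=
    separable_X_pow_sub_C (1 : ℚ) (Nat.cast_ne_zero.2 hn.ne') one_ne_zero
  have hgQ : f.map (Int.castRingHom ℚ) * g.map (Int.castRingHom ℚ) = X ^ n - 1 := by
    rw [← Polynomial.map_mul, ← hg]; simp
  obtain ⟨a, b, hab⟩ := ((hgQ ▸ hsep).isCoprime.symm.pow_right (n := j))
  set M := red ℚ N with hM
  have h0 : aeval M (f.map (Int.castRingHom ℚ)) * aeval M (g.map (Int.castRingHom ℚ)) = 0 := by
    rw [← map_mul, hgQ, map_sub, map_pow, aeval_X, map_one, hM, ← map_pow, hN, map_one, sub_self]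
  have h1 : aeval M (f.map (Int.castRingHom ℚ) ^ j) = 0 := by
    obtain ⟨S, hS⟩ := hc
    rw [← Polynomial.map_pow, hS, hM, ← red_aeval, map_mul, aeval_self_charpoly, zero_mul, map_zero]
  have h2 := congrArg (fun p => aeval M (f.map (Int.castRingHom ℚ)) * aeval M p) hab
  simp only [map_add, map_mul, h1, mul_zero, add_zero, map_one, mul_one] at h2
  have hcomm : Commute (aeval M (f.map (Int.castRingHom ℚ))) (aeval M a) :=
    (Commute.all (f.map (Int.castRingHom ℚ)) a).map (aeval M)
  rw [← mul_assoc, hcomm.eq, mul_assoc, h0, mul_zero] at h2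
  have h3 : red ℚ (aeval N f) = 0 := by rw [red_aeval]; exact h2.symm
  ext i k
  have := congrFun (congrFun h3 i) k
  simpa [red_apply] using this

/-- rows in the eigenspace of a simple eigenvalue are proportional -/
theorem proportional {e : ℤ} (N : Matrix (Fin l) (Fin l) ℤ) {R : ℤ[X]} (hc : N.charpoly = R * (X - C e))
    (hR : R.eval e ≠ 0) (u v : Fin l → ℤ) (hu : u ᵥ* N = e • u) (hv : v ᵥ* N = e • v)
    (i j : Fin l) : u i * v j = u j * v i := by
  classical
  let M : Matrix (Fin l) (Fin l) ℚ := (red ℚ N)ᵀ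
  let φ : Module.End ℚ (Fin l → ℚ) := Matrix.toLin' M
  have hmem : ∀ w : Fin l → ℤ, w ᵥ* N = e • w → (fun a => (w a : ℚ)) ∈ φ.eigenspace (e : ℚ) := by
    intro w hw
    rw [Module.End.mem_eigenspace_iff]
    funext a
    have h := congrArg (Int.cast : ℤ → ℚ) (congrFun hw a)
    simp only [vecMul, dotProduct, Pi.smul_apply, smul_eq_mul, Int.cast_sum, Int.cast_mul] at h
    simp only [φ, M, Matrix.toLin'_apply, mulVec, dotProduct, transpose_apply, red_apply, Pi.smul_apply,
      smul_eq_mul]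
    rw [← h]
    exact Finset.sum_congr rfl fun b _ => mul_comm _ _
  have hdim : Module.finrank ℚ ↥(φ.eigenspace (e : ℚ)) ≤ 1 := by
    refine (LinearMap.finrank_eigenspace_le φ _).trans ?_
    rw [Matrix.charpoly_toLin', show M = (N.map (Int.castRingHom ℚ))ᵀ from rfl,
      Matrix.charpoly_transpose, Matrix.charpoly_map, hc, Polynomial.map_mul]
    have hne : R.map (Int.castRingHom ℚ) * (X - C e).map (Int.castRingHom ℚ) ≠ 0 := by
      rw [← Polynomial.map_mul, ← hc]
      exact ((N.charpoly_monic).map _).ne_zero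
    have hRe : ¬ (R.map (Int.castRingHom ℚ)).IsRoot (e : ℚ) := by
      intro h
      rw [IsRoot, show (e : ℚ) = Int.castRingHom ℚ e from rfl, eval_map_apply] at h
      exact hR (by simpa using h)
    rw [rootMultiplicity_mul hne, rootMultiplicity_eq_zero hRe, zero_add, Polynomial.map_sub, map_X,
      map_C, show Int.castRingHom ℚ e = (e : ℚ) from rfl, rootMultiplicity_X_sub_C_self]
  obtain ⟨⟨w, hw⟩, hgen⟩ := finrank_le_one_iff.1 hdim
  obtain ⟨a, ha⟩ := hgen ⟨_, hmem u hu⟩
  obtain ⟨b, hb⟩ := hgen ⟨_, hmem v hv⟩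
  have ha' := congrArg Subtype.val ha
  have hb' := congrArg Subtype.val hb
  simp only [SetLike.mk_smul_mk] at ha' hb'
  have h1 := congrFun ha' i; have h2 := congrFun ha' j
  have h3 := congrFun hb' i; have h4 := congrFun hb' j
  simp only [Pi.smul_apply, smul_eq_mul] at h1 h2 h3 h4
  have : (u i : ℚ) * v j = u j * v i := by rw [← h1, ← h2, ← h3, ← h4]; ring
  exact_mod_cast this

end CfsgLib.Lie.Homocyclic
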