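import Mathlib.FieldTheory.Finite.Extension
import Cfsg.Agent.Lib.Lie.Chev.CoxTorus.Main
import Cfsg.Agent.Lib.Classical.LargePrimeSylow
import Cfsg.Agent.Lib.Lie.Chev.Homocyclic.Mult
import Cfsg.Agent.Lib.Lie.Chev.Homocyclic.Abelian

/-!
# Sylow subgroups for primes prime to the order of the Weyl group

For `r` dividing neither `q` nor a degree, with `d` the order of `q` modulo `r`, a Sylow
`r`-subgroup of the Chevalley group over `q` elements is conjugate into the diagonal subgroup over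
the extension of degree `d`; it is homocyclic as soon as no element of the Weyl group has `Φ_d` in
its characteristic polynomial more often than `d` divides degrees.
-/

set_option autoImplicit false

namespace CfsgLib.Lie.Homocyclic

open Cfsg.Lie CfsgLib.Lie.Chev CfsgLib.Lie.CoxTorus CfsgLib.Classical.LargePrime
open scoped MatrixGroups Matrix

variable {D : ChevalleyDatum} (C : Full D)

/-- one Weyl group element serves all the pairs of diagonal elements that `g` conjugates -/
theorem twist_common {K : Type*} [Field K] {g : GL D.Idx K} (hg : g ∈ D.group K) :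
    ∃ π ∈ C.G.Wg, ∀ a b : Fin D.rank → Kˣ, C.G.tor a ∈ D.diagonalSubgroup K →
      C.G.tor b ∈ D.diagonalSubgroup K → g * C.G.tor a = C.G.tor b * g →
      ∀ s, C.G.chi b (C.G.rho (π s)) = C.G.chi a (C.G.rho s) := by
  obtain ⟨b', hb', n₀, hn₀, π, hπ, u, hu, rfl⟩ := C.refined_exists hg
  refine ⟨π, mem_Wg_of_monomial C hn₀ hπ, fun a b ha hb h => ?_⟩
  obtain ⟨w, hw, d, hd, rfl⟩ := C.G.mem_borel_iff.1 hb'
  set n := d * n₀ with hn
  have hnm : n ∈ D.monomialSubgroup K := mul_mem (C.G.H_le_monomial hd) hn₀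
  have hnπ : C.G.NPerm n π := by
    have := Good.NPerm.mul C.G (C.G.nPerm_H hd) hπ
    rwa [one_mul] at this
  have hna : n * C.G.tor a * n⁻¹ ∈ D.diagonalSubgroup K :=
    (Subgroup.mem_normalizer_iff.1 (C.G.monomial_le_normalizer hnm) _).1 ha
  have hu' := C.G.Uinv_congr_H (inv_mem ha) π hu
  rw [inv_inv] at hu'
  have e : (w * (n * C.G.tor a * n⁻¹)) * n * ((C.G.tor a)⁻¹ * u * C.G.tor a) =
      (C.G.tor b * w) * n * u := by
    calc (w * (n * C.G.tor a * n⁻¹)) * n * ((C.G.tor a)⁻¹ * u * C.G.tor a)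
        = w * d * n₀ * u * C.G.tor a := by rw [hn]; group
      _ = C.G.tor b * (w * d * n₀ * u) := h
      _ = (C.G.tor b * w) * n * u := by rw [hn]; group
  obtain ⟨e1, -⟩ := C.refined_unique
    (mul_mem (Subgroup.mem_sup_left hw) (Subgroup.mem_sup_right hna))
    (mul_mem (Subgroup.mem_sup_right hb) (Subgroup.mem_sup_left hw)) hnπ hu' hu e
  have hbw : C.G.tor b * w * (C.G.tor b)⁻¹ ∈ D.posUnipotent K :=
    (Subgroup.mem_normalizer_iff.1 (C.G.H_normalizes_U hb) w).1 hw
  obtain ⟨-, e4⟩ := C.G.eq_one_of_U_H (mul_mem (inv_mem hbw) hw) (mul_mem hna (inv_mem hb)) (by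
    calc (C.G.tor b * w * (C.G.tor b)⁻¹)⁻¹ * w * (n * C.G.tor a * n⁻¹ * (C.G.tor b)⁻¹)
        = C.G.tor b * w⁻¹ * (C.G.tor b)⁻¹ * (w * (n * C.G.tor a * n⁻¹)) * (C.G.tor b)⁻¹ := by group
      _ = 1 := by rw [e1]; group)
  exact chi_of_conj C hnπ (mul_inv_eq_iff_eq_mul.1 (mul_inv_eq_one.1 e4))

section

variable {T : KerData D.rank} (hT : T.Ok (cmat D)) {dg : Fin D.rank → ℕ} (hdg : HasDegrees C dg)
  {r : ℕ} [hr : Fact r.Prime] (hrd : ¬ r ∣ T.d) (hrdg : ∀ i, ¬ r ∣ dg i)

include hT hdg hrd hrdg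

omit hrdg in
theorem not_dvd_gcd (m : ℕ) : ¬ r ∣ Nat.gcd T.d m ^ T.k := fun h =>
  hrd ((hr.out.dvd_of_dvd_pow h).trans (Nat.gcd_dvd_left _ _))

/-- the exponent of `r` in the order of the group -/
theorem val_card {F : Type*} [Field F] [Fintype F] (hrq : ¬ r ∣ Fintype.card F) (hr2 : r ≠ 2) :
    padicValNat r (Nat.card ↥(D.group F)) =
      (Finset.univ.filter fun i => orderOf ((Fintype.card F : ℕ) : ZMod r) ∣ dg i).card *
        ee (Fintype.card F) r := by
  classical
  set q := Fintype.card F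
  have hq2 : 2 ≤ q := Fintype.one_lt_card
  have h0 : ∀ i, dg i ≠ 0 := fun i h => hrdg i (h ▸ dvd_zero r)
  have hpos : ∀ i, q ^ dg i - 1 ≠ 0 := fun i => by
    have := Nat.one_lt_pow (h0 i) (show 1 < q by omega)
    omega
  have h1 : Nat.gcd T.d (q - 1) ^ T.k * Nat.card ↥(D.group F) =
      q ^ (D.nroots / 2) * ∏ i, (q ^ dg i - 1) := by
    apply Int.natCast_inj.1
    rw [C.order_formula T hT, hdg, Nat.cast_mul, Nat.cast_pow, Nat.cast_prod]
    congr 1
    refine Finset.prod_congr rfl fun i _ => ?_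
    rw [Nat.cast_sub (Nat.one_le_pow _ _ (by omega))]
    push_cast
    rfl
  have h2 := congrArg (padicValNat r) h1
  haveI : Finite (GL D.Idx F) := inferInstance
  rw [padicValNat.mul (pow_ne_zero _ (Nat.gcd_pos_of_pos_right _ (by omega)).ne') Nat.card_pos.ne',
    padicValNat.eq_zero_of_not_dvd (not_dvd_gcd C hT hdg hrd _), zero_add,
    padicValNat.mul (pow_ne_zero _ (by omega)) (Finset.prod_ne_zero_iff.2 fun i _ => hpos i),
    val_pow_zero hrq, zero_add, val_prod _ _ fun i _ => hpos i] at h2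
  rw [h2, Finset.card_filter, Finset.sum_mul]
  refine Finset.sum_congr rfl fun i _ => ?_
  split_ifs with hd
  · rw [one_mul, val_sub_one hq2 hr2 hrq (h0 i) hd fun h => hrdg i (h.trans (Nat.div_dvd_of_dvd hd))]
  · rw [zero_mul, padicValNat.eq_zero_of_not_dvd fun h => hd ((dvd_iff_ord (by omega) _).1 h)]

/-- a subgroup of `r`-power order is conjugate into the diagonal subgroup over a field with `1`
modulo `r` elements -/
theorem exists_conj_diag_subgroup {K : Type*} [Field K] [Fintype K]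
    (hQ : (Fintype.card K : ZMod r) = 1) {H : Type*} [Group H] (hH : IsPGroup r H)
    (φ : H →* ↥(D.group K)) :
    ∃ c ∈ D.group K, ∀ x, c⁻¹ * (φ x : GL D.Idx K) * c ∈ D.diagonalSubgroup K := by
  classical
  haveI : Finite (GL D.Idx K) := inferInstance
  set T' := (D.diagonalSubgroup K).subgroupOf (D.group K)
  have hidx : ¬ r ∣ Nat.card (↥(D.group K) ⧸ T') := by
    intro hd
    have hcard : Nat.card T' = Nat.card ↥(D.diagonalSubgroup K) :=
      Nat.card_congr (Subgroup.subgroupOfEquivOfLe C.G.diagonal_le_group).toEquiv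
    have h1 := C.order_formula (K := K) T hT
    rw [Psum_eq_prod C hdg, Subgroup.card_eq_card_quotient_mul_card_subgroup T', hcard,
      mul_left_comm, C.G.card_diagonal T hT, Nat.cast_mul, Nat.cast_pow,
      Nat.cast_sub Fintype.card_pos, Nat.cast_one, ← mul_assoc] at h1
    have hne : ((Fintype.card K : ℤ) - 1) ^ D.rank ≠ 0 := by
      have := Fintype.one_lt_card (α := K)
      exact pow_ne_zero _ (by omega)
    have h3 := mul_right_cancel₀ hne h1
    have h4 : ((Nat.card (↥(D.group K) ⧸ T') : ℤ) : ZMod r) = 0 := by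
      rw [Int.cast_natCast]
      exact (ZMod.natCast_eq_zero_iff _ _).2 hd
    rw [h3] at h4
    push_cast at h4
    simp only [hQ, one_pow, one_mul, Finset.sum_const, Finset.card_range, nsmul_eq_mul, mul_one,
      Finset.prod_eq_zero_iff, Finset.mem_univ, true_and] at h4
    obtain ⟨i, hi⟩ := h4
    exact hrdg i ((ZMod.natCast_eq_zero_iff _ _).1 hi)
  obtain ⟨P, hP⟩ := (hH.of_surjective φ.rangeRestrict φ.rangeRestrict_surjective).nonempty_fixed_point_of_prime_not_dvd_card
    (↥(D.group K) ⧸ T') hidx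
  induction P using QuotientGroup.induction_on with
  | H c =>
    refine ⟨c.1, c.2, fun x => ?_⟩
    have h5 := hP ⟨φ x, x, rfl⟩
    have h6 : c⁻¹ * (φ x * c) ∈ T' := (QuotientGroup.eq).1 h5.symm
    rw [mul_assoc]
    exact h6

/-- the Sylow subgroups are homocyclic -/
theorem sylow_homocyclic {F : Type*} [Field F] [Fintype F] (hrq : ¬ r ∣ Fintype.card F) (hr2 : r ≠ 2)
    (hrG : r ∣ Nat.card ↥(D.group F))
    (hmult : ∀ d : ℕ, (∃ i, d ∣ dg i) → ∀ π ∈ C.G.Wg, ∀ (k : ℕ) (R : Polynomial ℤ),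
      (wm C π).charpoly = Polynomial.cyclotomic d ℤ ^ k * R → R.Monic →
      k * Nat.totient d + R.natDegree = D.rank → k ≤ (Finset.univ.filter fun i => d ∣ dg i).card)
    (P : Sylow r ↥(D.group F)) :
    Nonempty (↥(P : Subgroup ↥(D.group F)) ≃*
      (Fin (Finset.univ.filter fun i => orderOf ((Fintype.card F : ℕ) : ZMod r) ∣ dg i).card →
        Multiplicative (ZMod (r ^ ee (Fintype.card F) r)))) := by
  classical
  set q := Fintype.card F with hq
  have hq2 : 2 ≤ q := Fintype.one_lt_card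
  set d := orderOf ((q : ℕ) : ZMod r) with hd
  have hd0 : 0 < d := ord_pos hrq
  set e := ee q r with he
  set a := (Finset.univ.filter fun i => d ∣ dg i).card with ha
  haveI : Finite (GL D.Idx F) := inferInstance
  have hval : padicValNat r (Nat.card ↥(D.group F)) = a * e := val_card C hT hdg hrd hrdg hrq hr2
  have hdvd : r ∣ q ^ d - 1 := (dvd_iff_ord (by omega) d).2 dvd_rfl
  have hQ1 : 1 ≤ q ^ d := Nat.one_le_pow _ _ (by omega)
  have hQne : q ^ d - 1 ≠ 0 := by
    have := Nat.one_lt_pow hd0.ne' (show 1 < q by omega)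
    omega
  have he1 : 1 ≤ e := one_le_padicValNat_of_dvd hQne hdvd
  have hex : ∃ i, d ∣ dg i := by
    by_contra h
    have : a = 0 := Finset.card_eq_zero.2 (Finset.filter_eq_empty_iff.2 fun i _ hi => h ⟨i, hi⟩)
    rw [this, zero_mul] at hval
    have h1 := one_le_padicValNat_of_dvd Nat.card_pos.ne' hrG
    omega
  -- the extension of degree `d`
  obtain ⟨p, hp⟩ := CharP.exists F
  haveI : Fact p.Prime := ⟨CharP.char_is_prime F p⟩
  haveI : NeZero d := ⟨hd0.ne'⟩
  let K := FiniteField.Extension F p d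
  letI : Fintype K := Fintype.ofFinite K
  have hcardK : Fintype.card K = q ^ d := by
    rw [Fintype.card_eq_nat_card, FiniteField.natCard_extension, hq, Fintype.card_eq_nat_card]
  have hcardU : Nat.card Kˣ = q ^ d - 1 := by
    rw [Nat.card_units, ← Fintype.card_eq_nat_card, hcardK]
  have hQ : (Fintype.card K : ZMod r) = 1 := by rw [hcardK, Nat.cast_pow, hd, pow_orderOf_eq_one]
  let ι : F →+* K := algebraMap F K
  let σ : K →+* K := (FiniteField.Extension.frob F p d).toRingEquiv.toRingHom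
  have hσ : ∀ a : K, σ a = a ^ q := fun a => by
    rw [hq, Fintype.card_eq_nat_card]
    exact FiniteField.Extension.frob_apply F p d
  have hσι : σ.comp ι = ι := RingHom.ext fun a => (FiniteField.Extension.frob F p d).commutes a
  have hσtor : ∀ u : Fin D.rank → Kˣ, fmap D σ (C.G.tor u) = C.G.tor (fun i => u i ^ q) := fun u => by
    rw [C.G.fmap_tor]
    exact congrArg _ (funext fun i => Units.ext (by simpa using hσ (u i : K)))
  -- into the diagonal subgroup
  let φ : ↥(P : Subgroup ↥(D.group F)) →* ↥(D.group K) :=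
    ((fmap D ι).comp ((D.group F).subtype.comp (P : Subgroup ↥(D.group F)).subtype)).codRestrict _
      fun g => C.G.fmap_mem_group ι g.1.2
  obtain ⟨c, hc, hdiag⟩ := exists_conj_diag_subgroup C hT hdg hrd hrdg hQ P.isPGroup' φ
  let χ : ↥(P : Subgroup ↥(D.group F)) →* GL D.Idx K :=
    (MulAut.conj c⁻¹).toMonoidHom.comp ((D.group K).subtype.comp φ)
  have hχ : ∀ g, χ g = c⁻¹ * fmap D ι ((g.1 : ↥(D.group F)) : GL D.Idx F) * c := fun g => by simp [χ, φ]
  have hχinj : Function.Injective χ := fun g g' h => by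
    rw [hχ, hχ, mul_left_inj, mul_right_inj] at h
    exact Subtype.ext (Subtype.ext (fmap_injective ι h))
  have hχd : ∀ g, χ g ∈ D.diagonalSubgroup K := fun g => by rw [hχ]; exact hdiag g
  letI : CommGroup ↥(P : Subgroup ↥(D.group F)) :=
    { (inferInstance : Group ↥(P : Subgroup ↥(D.group F))) with
      mul_comm := fun g g' => hχinj (by
        rw [map_mul, map_mul, C.G.diagonal_comm (hχd g) (hχd g')]) }
  -- the exponent
  have hexp : ∀ g : ↥(P : Subgroup ↥(D.group F)), g ^ r ^ e = 1 := by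
    intro g
    obtain ⟨s, hs⟩ := IsPGroup.iff_orderOf.1 P.isPGroup' g
    have hQ' : g ^ (q ^ d - 1) = 1 := by
      apply hχinj
      obtain ⟨c', hc'⟩ := (C.G.diagonal_eq_range (K := K) ▸ hχd g : χ g ∈ (C.G.torθ (K := K)).range)
      rw [map_pow, ← hc', map_one, ← map_pow,
        show c' ^ (q ^ d - 1) = 1 from funext fun i => by
          rw [Pi.pow_apply, ← hcardU]; exact pow_card_eq_one', map_one]
    have h1 : r ^ s ∣ q ^ d - 1 := hs ▸ orderOf_dvd_of_pow_eq_one hQ'
    exact orderOf_dvd_iff_pow_eq_one.1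
      (hs ▸ pow_dvd_pow r ((padicValNat_dvd_iff_le hQne).1 h1))
  -- the number of elements of order `r`
  set m := c⁻¹ * fmap D σ c with hm
  obtain ⟨π, hπ, hπc⟩ := twist_common C
    (show m ∈ D.group K from mul_mem (inv_mem hc) (C.G.fmap_mem_group σ hc))
  obtain ⟨γ, hγ'⟩ : ∃ γ : Kˣ, orderOf γ = r := exists_prime_orderOf_dvd_card' r (hcardU ▸ hdvd)
  have hγ : IsPrimitiveRoot γ r := hγ' ▸ IsPrimitiveRoot.orderOf γ
  set N := wm C π
  have hzex : ∀ g : {g : ↥(P : Subgroup ↥(D.group F)) // g ^ r = 1}, ∃ z : Fin D.rank → ℕ,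
      χ g.1 = C.G.tor (fun k => γ ^ (z k : ℤ)) ∧
      red (ZMod r) N *ᵥ (fun k => (((z k : ℕ) : ℤ) : ZMod r)) =
        ((q : ℤ) : ZMod r) • fun k => (((z k : ℕ) : ℤ) : ZMod r) := by
    intro g
    obtain ⟨v, hv⟩ := C.G.exists_tor (hχd g.1)
    have hvr : v ^ r = 1 := C.G.tor_eq_one (by rw [map_pow, ← hv, ← map_pow, g.2, map_one])
    have hzk : ∀ k, ∃ i : ℕ, γ ^ i = v k := fun k => by
      haveI : NeZero r := ⟨hr.out.ne_zero⟩
      obtain ⟨i, -, hi⟩ := (IsPrimitiveRoot.coe_units_iff.2 hγ).eq_pow_of_pow_eq_one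
        (show (v k : K) ^ r = 1 by rw [← Units.val_pow_eq_pow_val, ← Pi.pow_apply, hvr]; rfl)
      exact ⟨i, Units.ext (by rw [Units.val_pow_eq_pow_val, hi])⟩
    choose z hz using hzk
    have hvz : v = fun k => γ ^ (z k : ℤ) := funext fun k => by rw [zpow_natCast, hz]
    refine ⟨z, by rw [hv, hvz], (system_iff hγ N (fun k => (z k : ℤ)) (q : ℤ)).1 fun j => ?_⟩
    have hfix : fmap D σ (χ g.1) = m⁻¹ * χ g.1 * m := by
      rw [hχ, map_mul, map_mul, map_inv, fmap_fmap, hσι, hm]
      group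
    have hconj : m * C.G.tor (fun k => v k ^ q) = C.G.tor v * m := by
      rw [← hσtor, ← hv, hfix]
      group
    have hvq : C.G.tor (fun k => v k ^ q) ∈ D.diagonalSubgroup K := by
      rw [show (fun k => v k ^ q) = v ^ q from rfl, map_pow, ← hv]
      exact pow_mem (hχd g.1) q
    have h1 := hπc _ _ hvq (hv ▸ hχd g.1) hconj (C.G.simp' j)
    rw [chi_perm_simp, C.G.rho_simp, C.G.chi_single] at h1
    rw [hvz] at h1
    rw [h1, zpow_natCast _ q]
  choose z hz1 hz2 using hzex
  have hμ : IsPrimitiveRoot (((q : ℤ) : ZMod r)) d := by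
    rw [Int.cast_natCast]; exact IsPrimitiveRoot.orderOf _
  set n := Fintype.card C.G.Wg * d with hn
  have hn0 : 0 < n := Nat.mul_pos Fintype.card_pos hd0
  have hrn : ¬ r ∣ n := fun h => by
    rcases (Nat.Prime.dvd_mul hr.out).1 h with h | h
    · exact cast_dvd_prime C hr.out hrdg hdg h
    · obtain ⟨i, hi⟩ := hex
      exact hrdg i (h.trans hi)
  have hNn : N ^ n = 1 := by rw [hn, pow_mul, wm_pow_card C hπ, one_pow]
  obtain ⟨k, R, hcp, hRm, hdeg, hR⟩ := exists_split hd0 hn0 (dvd_mul_left d _) N hNn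
  have hka : k ≤ a := hmult d hex π hπ k R hcp hRm hdeg
  have htor : Nat.card {g : ↥(P : Subgroup ↥(D.group F)) // g ^ r = 1} ≤ r ^ a := by
    refine le_trans ?_ ((card_eigen_le hn0 hrn (dvd_mul_left d _) N hμ hcp hR).trans
      (Nat.pow_le_pow_right hr.out.pos hka))
    refine Nat.card_le_card_of_injective (fun g => ⟨_, hz2 g⟩) fun g g' hgg => ?_
    refine Subtype.ext (hχinj ?_)
    rw [hz1, hz1]
    congr 1
    funext j
    rw [← mul_inv_eq_one, ← zpow_sub, hγ.zpow_eq_one_iff_dvd]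
    exact (ZMod.intCast_eq_intCast_iff_dvd_sub _ _ _).1 (congrFun (congrArg Subtype.val hgg) j).symm
  refine homocyclic he1 hexp ?_ htor
  rw [P.card_eq_multiplicity, Nat.factorization_def _ hr.out, hval, mul_comm]

end

end CfsgLib.Lie.Homocyclic
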