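import Cfsg.Agent.Lib.Lie.Chev.Homocyclic.Forms
import Cfsg.Agent.Lib.Lie.Chev.Homocyclic.Mult
import Cfsg.Agent.Lib.Lie.Chev.TorData
import Cfsg.Agent.Lib.Lie.Chev.PoinD4
import Cfsg.Agent.Lib.Lie.Chev.PoinE6
import Cfsg.Agent.Lib.Lie.Chev.PoinE7
import Cfsg.Agent.Lib.Lie.Chev.CommD4
import Cfsg.Agent.Lib.Lie.Chev.CommE6
import Cfsg.Agent.Lib.Lie.Chev.CommE7

/-!
# The multiplicities that rationality alone does not exclude

D₄ has no element with characteristic polynomial `Φ₃²` or `Φ₆²`, E₆ none with `Φ₄³`, `Φ₆³` or at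
least five eigenvalues `-1`, and E₇ none with three pairs of eigenvalues `±i`: the Weyl group fixes
the classes of the root lattice in the weight lattice and the invariant form.
-/

set_option autoImplicit false
set_option maxRecDepth 100000

namespace CfsgLib.Lie.Homocyclic

open Cfsg.Lie CfsgLib.Lie.Chev CfsgLib.Lie.CoxTorus
open Matrix Polynomial

/-- the verified structure of type D4 -/
noncomputable def cD4 : Full chevD4 := ⟨goodD4, fastD4, rowsOK chkRows_D4, chkComm_D4⟩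

/-- the verified structure of type E6 -/
noncomputable def cE6 : Full chevE6 := ⟨goodE6, fastE6, rowsOK chkRows_E6, chkComm_E6⟩

/-- the verified structure of type E7 -/
noncomputable def cE7 : Full chevE7 := ⟨goodE7, fastE7, rowsOK chkRows_E7, chkComm_E7⟩

def zD4 : Fin chevD4.rank → ℤ := fun k => [1, 0, 1, 0].getD k.val 0

def zE6 : Fin chevE6.rank → ℤ := fun k => [1, 0, 2, 0, 1, 2].getD k.val 0

def zE7 : Fin chevE7.rank → ℤ := fun k => [0, 1, 0, 0, 1, 0, 1].getD k.val 0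

theorem zD4_fix : ∀ i, (fun k => (zD4 k : ZMod 2)) ᵥ* red (ZMod 2) (wm cD4 (cD4.G.sP i)) =
    fun k => (zD4 k : ZMod 2) := by decide +kernel

theorem zE6_fix : ∀ i, (fun k => (zE6 k : ZMod 3)) ᵥ* red (ZMod 3) (wm cE6 (cE6.G.sP i)) =
    fun k => (zE6 k : ZMod 3) := by decide +kernel

theorem formE6 : ∀ i, wm cE6 (cE6.G.sP i) * cM cE6 * (wm cE6 (cE6.G.sP i))ᵀ = cM cE6 := by
  decide +kernel

theorem formE7 : ∀ i, wm cE7 (cE7.G.sP i) * cM cE7 * (wm cE7 (cE7.G.sP i))ᵀ = cM cE7 := by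
  decide +kernel

theorem symE6 : (cM cE6)ᵀ = cM cE6 := by decide +kernel

theorem symE7 : (cM cE7)ᵀ = cM cE7 := by decide +kernel

theorem bil_comm {D : ChevalleyDatum} {C : Full D} (h : (cM C)ᵀ = cM C) (u v : Fin D.rank → ℤ) :
    bil C u v = bil C v u := by
  rw [bil, bil, dotProduct_mulVec, dotProduct_comm, ← mulVec_transpose, h]

theorem bil_add_left {D : ChevalleyDatum} (C : Full D) (u u' v : Fin D.rank → ℤ) :
    bil C (u + u') v = bil C u v + bil C u' v := add_dotProduct _ _ _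

theorem bil_smul_left {D : ChevalleyDatum} (C : Full D) (a : ℤ) (u v : Fin D.rank → ℤ) :
    bil C (a • u) v = a * bil C u v := smul_dotProduct _ _ _

theorem bil_add_right {D : ChevalleyDatum} (C : Full D) (u v v' : Fin D.rank → ℤ) :
    bil C u (v + v') = bil C u v + bil C u v' := by
  rw [bil, mulVec_add, dotProduct_add]; rfl

theorem bil_smul_right {D : ChevalleyDatum} (C : Full D) (a : ℤ) (u v : Fin D.rank → ℤ) :
    bil C u (a • v) = a * bil C u v := by
  rw [bil, mulVec_smul, dotProduct_smul]; rfl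

theorem bil_mod {D : ChevalleyDatum} (C : Full D) (m : ℕ) (u v : Fin D.rank → ℤ) :
    ((bil C u v : ℤ) : ZMod m) =
      (fun k => (u k : ZMod m)) ⬝ᵥ (red (ZMod m) (cM C) *ᵥ fun k => (v k : ZMod m)) := by
  simp [bil, dotProduct, mulVec, red_apply]

/-! ### D₄ -/

theorem no_cube_D4 {π : Equiv.Perm (Fin chevD4.nroots)} (hπ : π ∈ cD4.G.Wg) {d : ℕ}
    (hd : d = 3 ∨ d = 6) : aeval (wm cD4 π) (cyclotomic d ℤ) ≠ 0 := by
  intro hf
  have h := fixed_class_eval (m := 2) (wm cD4 π) _ hf zD4 (class_fixed cD4 zD4 zD4_fix hπ)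
    ⟨0, by decide +kernel⟩
  rw [show zD4 ⟨0, by decide +kernel⟩ = 1 from by decide +kernel, mul_one] at h
  rcases hd with rfl | rfl
  · rw [cyclotomic_three] at h
    norm_num at h
    exact absurd h (by decide)
  · rw [cyclotomic_six] at h
    norm_num at h

/-! ### E₆ -/

theorem no_class_E6 {π : Equiv.Perm (Fin chevE6.nroots)} (hπ : π ∈ cE6.G.Wg) (f : ℤ[X])
    (hf : aeval (wm cE6 π) f = 0) : ((f.eval 1 : ℤ) : ZMod 3) = 0 := by
  have h := fixed_class_eval (m := 3) (wm cE6 π) f hf zE6 (class_fixed cE6 zE6 zE6_fix hπ)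
    ⟨0, by decide +kernel⟩
  rwa [show zE6 ⟨0, by decide +kernel⟩ = 1 from by decide +kernel, mul_one] at h

theorem rootsE6 : ∀ (i : Fin chevE6.rank) (t : Fin chevE6.nroots),
    -2 ≤ bil cE6 (Pi.single i 1) (cE6.G.rho t) ∧ bil cE6 (Pi.single i 1) (cE6.G.rho t) ≤ 2 ∧
      bil cE6 (cE6.G.rho t) (cE6.G.rho t) = 2 ∧ bil cE6 (Pi.single i 1) (Pi.single i 1) = 2 ∧
      (bil cE6 (Pi.single i 1) (cE6.G.rho t) = -2 →
        ∀ k, cE6.G.rho t k + (Pi.single i 1 : Fin chevE6.rank → ℤ) k = 0) := by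
  decide +kernel

theorem evenE6 : ∀ x : Fin chevE6.rank → ZMod 2, x ⬝ᵥ (red (ZMod 2) (cM cE6) *ᵥ x) = 0 := by
  decide +kernel

theorem zE6_form : bil cE6 zE6 zE6 % 9 = 3 ∧ ∀ k, (cM cE6 *ᵥ zE6) k % 3 = 0 := by decide +kernel

theorem squares27 : ∀ x : ZMod 27, x ^ 2 ≠ 18 := by decide +kernel

theorem squares9 : ∀ x : ZMod 9, x ^ 2 ≠ 6 ∧ x ^ 2 ≠ 3 := by decide +kernel

theorem no_reflection_E6 {π : Equiv.Perm (Fin chevE6.nroots)} (hπ : π ∈ cE6.G.Wg)
    (hc : (wm cE6 π).charpoly = cyclotomic 2 ℤ ^ 5 * (X - C (1 : ℤ)))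
    (hsq : wm cE6 π * wm cE6 π = 1) : False := by
  have hinv : ∀ π ∈ cE6.G.Wg, wm cE6 π * cM cE6 * (wm cE6 π)ᵀ = cM cE6 := fun _ h =>
    form_invariant cE6 formE6 h
  set N := wm cE6 π
  have hfix : ∀ x : Fin chevE6.rank → ℤ, (x ᵥ* N + x) ᵥ* N = (1 : ℤ) • (x ᵥ* N + x) := fun x => by
    rw [add_vecMul, vecMul_vecMul, hsq, vecMul_one, one_smul, add_comm]
  have hprop : ∀ x y i j, (x ᵥ* N + x) i * (y ᵥ* N + y) j = (x ᵥ* N + x) j * (y ᵥ* N + y) i :=
    fun x y => proportional N hc (by rw [cyclotomic_two]; norm_num) _ _ (hfix x) (hfix y)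
  -- the image of the fixed class
  set w := zE6 ᵥ* N + zE6 with hw
  obtain ⟨y, hy⟩ : ∃ y : Fin chevE6.rank → ℤ, w = (2 : ℤ) • zE6 + (3 : ℤ) • y := by
    have h1 := class_fixed cE6 zE6 zE6_fix hπ
    rw [← vecMul_red] at h1
    have hdiv : ∀ k, ∃ c, (zE6 ᵥ* N) k - zE6 k = 3 * c := fun k =>
      (ZMod.intCast_eq_intCast_iff_dvd_sub _ _ 3).1 (congrFun h1 k).symm
    choose y hy using hdiv
    refine ⟨y, funext fun k => ?_⟩
    simp only [hw, Pi.add_apply, Pi.smul_apply, smul_eq_mul]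
    linarith [hy k]
  have hWmod : bil cE6 w w % 9 = 3 := by
    obtain ⟨z9, zC⟩ := zE6_form
    have hzy : (3 : ℤ) ∣ bil cE6 y zE6 := by
      show (3 : ℤ) ∣ ∑ k, y k * (cM cE6 *ᵥ zE6) k
      exact Finset.dvd_sum fun k _ => Dvd.dvd.mul_left (Int.dvd_of_emod_eq_zero (zC k)) _
    obtain ⟨c, hc'⟩ := hzy
    rw [hy, bil_add_left, bil_add_right, bil_add_right, bil_smul_left, bil_smul_left, bil_smul_left,
      bil_smul_left, bil_smul_right, bil_smul_right, bil_smul_right, bil_smul_right,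
      bil_comm symE6 zE6 y, hc']
    omega
  have hw0 : w ≠ 0 := fun h => by simp [h, bil] at hWmod
  obtain ⟨j, hj⟩ := Function.ne_iff.1 hw0
  -- a fundamental root that is not inverted
  obtain ⟨i, hi⟩ : ∃ i, (Pi.single i 1 : Fin chevE6.rank → ℤ) ᵥ* N + Pi.single i 1 ≠ 0 := by
    by_contra hall
    simp only [not_exists, not_not] at hall
    apply hw0
    have hN : N + 1 = 0 := by
      ext a b
      have := congrFun (hall a) b
      simpa [Matrix.one_apply, Pi.single_apply, eq_comm] using this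
    rw [hw, show zE6 ᵥ* N + zE6 = zE6 ᵥ* (N + 1) by rw [vecMul_add, vecMul_one], hN, vecMul_zero]
  set u := (Pi.single i 1 : Fin chevE6.rank → ℤ) ᵥ* N + Pi.single i 1 with hu
  set t := π (cE6.G.simp' i)
  have ht : u = cE6.G.rho t + Pi.single i 1 := by rw [hu, rho_simp_vecMul cE6 hπ]
  obtain ⟨b1, b2, b3, b4, b5⟩ := rootsE6 i t
  set b := bil cE6 (Pi.single i 1) (cE6.G.rho t) with hb
  have hn : bil cE6 u u = 4 + 2 * b := by
    rw [ht, bil_add_left, bil_add_right, bil_add_right, bil_comm symE6 (cE6.G.rho t) (Pi.single i 1),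
      b3, b4, ← hb]
    ring
  have hbne : b ≠ -2 := fun h => hi (by rw [ht]; exact funext (b5 h))
  -- the norm is a square class
  obtain ⟨m, hm⟩ := Function.ne_iff.1 hi
  have e1 : u m • w = w m • u := funext fun k => by
    simp only [Pi.smul_apply, smul_eq_mul]
    linarith [hprop (Pi.single i 1) zE6 m k]
  have e2 := congrArg (fun v => bil cE6 v w) e1
  have e3 := congrArg (fun v => bil cE6 u v) e1
  simp only [bil_smul_left, bil_smul_right] at e2 e3
  have hT : bil cE6 u w ^ 2 = bil cE6 u u * bil cE6 w w :=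
    mul_left_cancel₀ hm (by linear_combination bil cE6 u w * e3 - bil cE6 u u * e2)
  rw [hn] at hT
  set W := bil cE6 w w
  obtain ⟨c, hc'⟩ : ∃ c, W = 3 + 9 * c := ⟨W / 9, by omega⟩
  rw [hc'] at hT
  rcases (show b = -1 ∨ b = 0 ∨ b = 1 ∨ b = 2 by omega) with h | h | h | h <;> rw [h] at hT
  · have := congrArg (Int.cast : ℤ → ZMod 9) hT
    push_cast at this
    exact (squares9 _).1 (this.trans (by ring_nf; reduce_mod_char))
  · have := congrArg (Int.cast : ℤ → ZMod 9) hT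
    push_cast at this
    exact (squares9 _).2 (this.trans (by ring_nf; reduce_mod_char))
  · have := congrArg (Int.cast : ℤ → ZMod 27) hT
    push_cast at this
    exact squares27 _ (this.trans (by ring_nf; reduce_mod_char))
  · have := congrArg (Int.cast : ℤ → ZMod 9) hT
    push_cast at this
    exact (squares9 _).1 (this.trans (by ring_nf; reduce_mod_char))

/-! ### E₇ -/

theorem rootsE7 : ∀ (i : Fin chevE7.rank) (t : Fin chevE7.nroots),
    -2 ≤ bil cE7 (cE7.G.rho t) (Pi.single i 1) ∧ bil cE7 (cE7.G.rho t) (Pi.single i 1) ≤ 2 ∧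
      bil cE7 (cE7.G.rho t) (cE7.G.rho t) = 2 ∧ bil cE7 (Pi.single i 1) (Pi.single i 1) = 2 ∧
      (bil cE7 (cE7.G.rho t) (Pi.single i 1) = -2 →
        ∀ k, cE7.G.rho t k = - (Pi.single i 1 : Fin chevE7.rank → ℤ) k) ∧
      (bil cE7 (cE7.G.rho t) (Pi.single i 1) = 2 →
        ∀ k, cE7.G.rho t k = (Pi.single i 1 : Fin chevE7.rank → ℤ) k) ∧
      ((∀ k, (cE7.G.rho t k + (Pi.single i 1 : Fin chevE7.rank → ℤ) k) % 2 = 0) →
        bil cE7 (cE7.G.rho t) (Pi.single i 1) ≠ 0) := by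
  decide +kernel

theorem radicalE7 : ∀ x : Fin chevE7.rank → ZMod 2, red (ZMod 2) (cM cE7) *ᵥ x = 0 →
    x = 0 ∨ x = fun k => (zE7 k : ZMod 2) := by decide +kernel

theorem zE7_form : bil cE7 zE7 zE7 % 4 = 2 ∧ ∀ k, (cM cE7 *ᵥ zE7) k % 2 = 0 := by decide +kernel

theorem evenE7 : ∀ x : Fin chevE7.rank → ZMod 2, x ⬝ᵥ (red (ZMod 2) (cM cE7) *ᵥ x) = 0 := by
  decide +kernel

theorem neighbourE7 : ∀ i, ∃ j, j ≠ i ∧ bil cE7 (Pi.single i 1) (Pi.single j 1) ≠ 0 := by decide +kernel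

theorem no_fours_E7 {π : Equiv.Perm (Fin chevE7.nroots)} (hπ : π ∈ cE7.G.Wg) {e : ℤ}
    (he : e = 1 ∨ e = -1) (hc : (wm cE7 π).charpoly = cyclotomic 4 ℤ ^ 3 * (X - C e))
    (hrel : (wm cE7 π * wm cE7 π + 1) * wm cE7 π = e • (wm cE7 π * wm cE7 π + 1)) : False := by
  have hinv : ∀ π ∈ cE7.G.Wg, wm cE7 π * cM cE7 * (wm cE7 π)ᵀ = cM cE7 := fun _ h =>
    form_invariant cE7 formE7 h
  set N := wm cE7 π with hN
  have hπ2 : π * π ∈ cE7.G.Wg := mul_mem hπ hπ
  have hN2 : wm cE7 (π * π) = N * N := wm_mul cE7 hπ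
  set u : (Fin chevE7.rank → ℤ) → (Fin chevE7.rank → ℤ) := fun x => x ᵥ* (N * N) + x with hu
  have hfix : ∀ x, u x ᵥ* N = e • u x := fun x => by
    rw [show u x = x ᵥ* (N * N + 1) by rw [hu, vecMul_add, vecMul_one], vecMul_vecMul, hrel,
      vecMul_smul]
  have hev : (cyclotomic 4 ℤ ^ 3).eval e ≠ 0 := by
    rw [show (4 : ℕ) = 2 ^ (1 + 1) by norm_num, cyclotomic_prime_pow_eq_geom_sum Nat.prime_two]
    rcases he with rfl | rfl <;> norm_num [Finset.sum_range_succ]
  have hprop : ∀ x y a b, u x a * u y b = u x b * u y a := fun x y =>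
    proportional N hc hev _ _ (hfix x) (hfix y)
  have h4 : N * N * (N * N) = 1 := by
    have e2 : e • e • (N * N + 1) = N * N + 1 := by rcases he with rfl | rfl <;> simp
    have h1 : (N * N + 1) * (N * N) = N * N + 1 := by
      rw [← Matrix.mul_assoc, hrel, smul_mul, hrel, e2]
    rw [Matrix.add_mul, Matrix.one_mul] at h1
    exact add_right_cancel (h1.trans (add_comm _ _))
  have hsymm : ∀ x y, bil cE7 (u x) y = bil cE7 (u y) x := fun x y => by
    rw [hu]
    simp only [bil_add_left]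
    congr 1
    · rw [← bil_invariant cE7 hinv hπ2 (x ᵥ* (N * N)) y, hN2, vecMul_vecMul, h4, vecMul_one,
        bil_comm symE7]
    · exact bil_comm symE7 _ _
  have heven : ∀ x, bil cE7 (u x) x % 2 = 0 := fun x => by
    have h1 := bil_invariant cE7 hinv hπ (u x) x
    rw [← hN, hfix, bil_smul_left] at h1
    have h2 : bil cE7 (u x) (x ᵥ* N) = 2 * bil cE7 (x ᵥ* N) x := by
      rw [hu]
      simp only [bil_add_left]
      rw [← vecMul_vecMul, hN, bil_invariant cE7 hinv hπ, ← hN, bil_comm symE7 x (x ᵥ* N)]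
      ring
    rw [h2] at h1
    rcases he with rfl | rfl <;> omega
  set ei : Fin chevE7.rank → Fin chevE7.rank → ℤ := fun i => Pi.single i 1
  set t := fun i => (π * π) (cE7.G.simp' i)
  have ht : ∀ i, u (ei i) = cE7.G.rho (t i) + ei i := fun i => by
    simp only [hu, ei, t]
    rw [← hN2, rho_simp_vecMul cE7 hπ2]
  have hbcases : ∀ i, bil cE7 (cE7.G.rho (t i)) (ei i) = -2 ∨ bil cE7 (cE7.G.rho (t i)) (ei i) = 0 ∨
      bil cE7 (cE7.G.rho (t i)) (ei i) = 2 := fun i => by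
    obtain ⟨b1, b2, b3, b4, -⟩ := rootsE7 i (t i)
    have := heven (ei i)
    rw [ht, bil_add_left, b4] at this
    simp only [ei] at this ⊢
    omega
  have hno : ∀ i, bil cE7 (cE7.G.rho (t i)) (ei i) ≠ 0 := by
    intro i h0
    obtain ⟨-, -, b3, b4, -, -, b7⟩ := rootsE7 i (t i)
    have hSii : bil cE7 (u (ei i)) (ei i) = 2 := by rw [ht, bil_add_left, h0, b4, zero_add]
    have hrow : ∀ j, bil cE7 (u (ei i)) (ei j) % 2 = 0 := by
      intro j
      by_cases hj : u (ei j) = 0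
      · rw [hsymm, hj]; simp [bil]
      obtain ⟨k, hk⟩ := Function.ne_iff.1 hj
      have e1 : u (ei j) k • u (ei i) = u (ei i) k • u (ei j) := funext fun a => by
        simp only [Pi.smul_apply, smul_eq_mul]
        linarith [hprop (ei i) (ei j) k a]
      have e2 := congrArg (fun v => bil cE7 v (ei i)) e1
      have e3 := congrArg (fun v => bil cE7 v (ei j)) e1
      simp only [bil_smul_left, hsymm (ei j) (ei i)] at e2 e3
      have hsq : bil cE7 (u (ei i)) (ei j) ^ 2 =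
          bil cE7 (u (ei i)) (ei i) * bil cE7 (u (ei j)) (ei j) :=
        mul_left_cancel₀ hk (by
          linear_combination bil cE7 (u (ei i)) (ei j) * e3 - bil cE7 (u (ei j)) (ei j) * e2)
      rw [hSii] at hsq
      have h2 : (2 : ℤ) ∣ bil cE7 (u (ei i)) (ei j) :=
        Int.prime_two.dvd_of_dvd_pow (Dvd.intro _ hsq.symm)
      omega
    have hrad : red (ZMod 2) (cM cE7) *ᵥ (fun k => (u (ei i) k : ZMod 2)) = 0 := by
      funext j
      have h1 : ((bil cE7 (ei j) (u (ei i)) : ℤ) : ZMod 2) = 0 := by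
        rw [bil_comm symE7, ZMod.intCast_zmod_eq_zero_iff_dvd]
        exact Int.dvd_of_emod_eq_zero (hrow j)
      rw [bil_mod] at h1
      simpa [ei, dotProduct, Pi.single_apply, apply_ite] using h1
    rcases radicalE7 _ hrad with h | h
    · refine b7 (fun k => ?_) h0
      have h' := congrFun h k
      rw [ht, Pi.add_apply, Pi.zero_apply, ZMod.intCast_zmod_eq_zero_iff_dvd] at h'
      exact Int.emod_eq_zero_of_dvd h'
    · have hdiv : ∀ k, ∃ c, u (ei i) k - zE7 k = 2 * c := fun k =>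
        (ZMod.intCast_eq_intCast_iff_dvd_sub _ _ 2).1 (congrFun h k).symm
      choose y hy using hdiv
      have hU : u (ei i) = zE7 + (2 : ℤ) • y := funext fun k => by
        simp only [Pi.add_apply, Pi.smul_apply, smul_eq_mul]
        linarith [hy k]
      have h4' : bil cE7 (u (ei i)) (u (ei i)) = 4 := by
        rw [ht, bil_add_left, bil_add_right, bil_add_right, bil_comm symE7 (ei i) (cE7.G.rho (t i)), b3,
          h0, b4]
        norm_num
      obtain ⟨z4, zC⟩ := zE7_form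
      obtain ⟨c, hc'⟩ : (2 : ℤ) ∣ bil cE7 y zE7 := by
        show (2 : ℤ) ∣ ∑ k, y k * (cM cE7 *ᵥ zE7) k
        exact Finset.dvd_sum fun k _ => Dvd.dvd.mul_left (Int.dvd_of_emod_eq_zero (zC k)) _
      rw [hU, bil_add_left, bil_add_right, bil_add_right, bil_smul_left, bil_smul_left, bil_smul_right,
        bil_smul_right, bil_comm symE7 zE7 y, hc'] at h4'
      omega
  have hsign : ∀ i, (cE7.G.rho (t i) = ei i) ∨ (cE7.G.rho (t i) = -ei i) := fun i => by
    obtain ⟨-, -, -, -, b5, b6, -⟩ := rootsE7 i (t i)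
    rcases hbcases i with h | h | h
    · exact Or.inr (funext (b5 h))
    · exact absurd h (hno i)
    · exact Or.inl (funext (b6 h))
  by_cases hex : ∃ i, cE7.G.rho (t i) = ei i
  · obtain ⟨i, hi⟩ := hex
    obtain ⟨j, hji, hij⟩ := neighbourE7 i
    have hj : cE7.G.rho (t j) = -ei j := by
      refine (hsign j).resolve_left fun hj => ?_
      have := hprop (ei i) (ei j) i j
      rw [ht, ht, hi, hj] at this
      simp [ei, hji, Ne.symm hji] at this
    have h1 := bil_invariant cE7 hinv hπ2 (ei i) (ei j)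
    rw [rho_simp_vecMul cE7 hπ2, rho_simp_vecMul cE7 hπ2] at h1
    change bil cE7 (cE7.G.rho (t i)) (cE7.G.rho (t j)) = _ at h1
    rw [hi, hj, ← neg_one_smul ℤ, bil_smul_right] at h1
    apply hij
    change bil cE7 (ei i) (ei j) = 0
    omega
  · simp only [not_exists] at hex
    have hneg : N * N = -1 := by
      ext a b
      have h1 := congrFun (ht a) b
      rw [(hsign a).resolve_left (hex a)] at h1
      simp [hu, ei, Matrix.one_apply, Pi.single_apply, eq_comm] at h1 ⊢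
      linarith
    have h1 := congrArg Matrix.det hneg
    rw [Matrix.det_mul, Matrix.det_neg, Matrix.det_one, Fintype.card_fin,
      (show Odd chevE7.rank from by decide +kernel).neg_one_pow] at h1
    nlinarith [mul_self_nonneg N.det]

end CfsgLib.Lie.Homocyclic
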