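import Cfsg.Agent.Lib.Lie.Chev.Homocyclic.Main
import Cfsg.Agent.Lib.Lie.Chev.Homocyclic.Exceptional
import Cfsg.Agent.Lib.Lie.Chev.CoxTorus.Data
import Cfsg.Agent.Lib.Lie.Chev.PoinB2
import Cfsg.Agent.Lib.Lie.Chev.CommB2

/-!
# The seven types
-/

set_option autoImplicit false
set_option maxRecDepth 100000

namespace CfsgLib.Lie.Homocyclic

open Cfsg.Lie CfsgLib.Lie.Chev CfsgLib.Lie.CoxTorus
open Matrix Polynomial

/-- the verified structure of type B2 -/
noncomputable def cB2 : Full chevB2 := ⟨goodB2, fastB2, rowsOK chkRows_B2, chkComm_B2⟩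

theorem degB2 : HasDegrees cB2 (vecOfList [2, 4]) := fun q => by
  have e : (q - 1) ^ chevB2.rank = (q - 1) ^ 2 :=
    congrArg _ (show chevB2.rank = 2 from by decide +kernel)
  rw [e]
  refine (poinB2 _ q).trans ?_
  simp only [vecOfList, Fin.prod_univ_eq_prod_range (fun i => q ^ [2, 4].getD i 0 - 1)]
  rw [show chevB2.rank = 2 from by decide +kernel]
  simp [Finset.prod_range_succ]

theorem degD4 : HasDegrees cD4 (vecOfList [2, 4, 4, 6]) := fun q => by
  have e : (q - 1) ^ chevD4.rank = (q - 1) ^ 4 :=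
    congrArg _ (show chevD4.rank = 4 from by decide +kernel)
  rw [e]
  refine (poinD4 _ q).trans ?_
  simp only [vecOfList, Fin.prod_univ_eq_prod_range (fun i => q ^ [2, 4, 4, 6].getD i 0 - 1)]
  rw [show chevD4.rank = 4 from by decide +kernel]
  simp [Finset.prod_range_succ]

theorem degE6 : HasDegrees cE6 (vecOfList [2, 5, 6, 8, 9, 12]) := fun q => by
  have e : (q - 1) ^ chevE6.rank = (q - 1) ^ 6 :=
    congrArg _ (show chevE6.rank = 6 from by decide +kernel)
  rw [e]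
  refine (poinE6 _ q).trans ?_
  simp only [vecOfList, Fin.prod_univ_eq_prod_range (fun i => q ^ [2, 5, 6, 8, 9, 12].getD i 0 - 1)]
  rw [show chevE6.rank = 6 from by decide +kernel]
  simp [Finset.prod_range_succ]

theorem degE7 : HasDegrees cE7 (vecOfList [2, 6, 8, 10, 12, 14, 18]) := fun q => by
  have e : (q - 1) ^ chevE7.rank = (q - 1) ^ 7 :=
    congrArg _ (show chevE7.rank = 7 from by decide +kernel)
  rw [e]
  refine (poinE7 _ q).trans ?_
  simp only [vecOfList,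
    Fin.prod_univ_eq_prod_range (fun i => q ^ [2, 6, 8, 10, 12, 14, 18].getD i 0 - 1)]
  rw [show chevE7.rank = 7 from by decide +kernel]
  simp [Finset.prod_range_succ]

/-- the number of entries divisible by `d` -/
def cnt (L : List ℕ) (d : ℕ) : ℕ := (L.filter fun e => d ∣ e).length

theorem cnt_eq {l : ℕ} (dg : Fin l → ℕ) (L : List ℕ) (hL : List.ofFn dg = L) (d : ℕ) :
    (Finset.univ.filter fun i => d ∣ dg i).card = cnt L d := by
  rw [cnt, ← hL, List.ofFn_eq_map, List.filter_map, List.length_map,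
    ← List.toFinset_card_of_nodup ((List.nodup_finRange l).filter _)]
  congr 1
  ext i
  simp

theorem le_of_dvd_degree {l : ℕ} {dg : Fin l → ℕ} (hpos : ∀ i, 0 < dg i) (hle : ∀ i, dg i < 31) {d : ℕ}
    (hd : ∃ i, d ∣ dg i) : 0 < d ∧ d < 31 := by
  obtain ⟨i, hi⟩ := hd
  exact ⟨Nat.pos_of_dvd_of_pos hi (hpos i), (Nat.le_of_dvd (hpos i) hi).trans_lt (hle i)⟩

/-- the multiplicities allowed by the size alone, except for the listed pairs -/
def chkMult (l : ℕ) (L : List ℕ) (exc : List (ℕ × ℕ)) : Bool :=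
  (List.range 31).all fun d => (List.range (l + 1)).all fun k =>
    decide (0 < d → 0 < cnt L d → k * Nat.totient d ≤ l → k ≤ cnt L d ∨ (d, k) ∈ exc)

theorem mult_of_chk {D : ChevalleyDatum} (C : Full D) {dg : Fin D.rank → ℕ} {L : List ℕ}
    (hL : List.ofFn dg = L) {exc : List (ℕ × ℕ)} (hchk : chkMult D.rank L exc = true)
    (hpos : ∀ i, 0 < dg i) (hle : ∀ i, dg i < 31)
    (hexc : ∀ d k, (d, k) ∈ exc → ∀ π ∈ C.G.Wg, ∀ R : ℤ[X],
      (wm C π).charpoly = cyclotomic d ℤ ^ k * R → R.Monic →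
      k * Nat.totient d + R.natDegree = D.rank → False)
    (d : ℕ) (hd : ∃ i, d ∣ dg i) (π : Equiv.Perm (Fin D.nroots)) (hπ : π ∈ C.G.Wg) (k : ℕ) (R : ℤ[X])
    (hc : (wm C π).charpoly = cyclotomic d ℤ ^ k * R) (hR : R.Monic)
    (hdeg : k * Nat.totient d + R.natDegree = D.rank) :
    k ≤ (Finset.univ.filter fun i => d ∣ dg i).card := by
  obtain ⟨hd0, hd31⟩ := le_of_dvd_degree hpos hle hd
  have hkl : k ≤ D.rank := (Nat.le_mul_of_pos_right k (Nat.totient_pos.2 hd0)).trans (by omega)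
  have hpos' : 0 < (Finset.univ.filter fun i => d ∣ dg i).card := by
    obtain ⟨i, hi⟩ := hd
    exact Finset.card_pos.2 ⟨i, Finset.mem_filter.2 ⟨Finset.mem_univ i, hi⟩⟩
  rw [cnt_eq dg L hL] at hpos' ⊢
  simp only [chkMult, List.all_eq_true, List.mem_range, decide_eq_true_eq] at hchk
  rcases hchk d hd31 k (by omega) hd0 hpos' (by omega) with h | h
  · exact h
  · exact (hexc d k h π hπ R hc hR hdeg).elim

section

variable {l : ℕ} {n : ℕ}

/-- the cyclotomic polynomial kills the matrix when it is the only factor -/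
theorem kill_full (hn : 0 < n) {d k : ℕ} (hdn : d ∣ n) (N : Matrix (Fin l) (Fin l) ℤ) (hN : N ^ n = 1)
    {R : ℤ[X]} (hc : N.charpoly = cyclotomic d ℤ ^ k * R) (hR : R.Monic) (h0 : R.natDegree = 0) :
    aeval N (cyclotomic d ℤ) = 0 := by
  refine aeval_eq_zero (j := k) hn N hN _ ?_ ?_
  · rw [← prod_cyclotomic_eq_X_pow_sub_one hn ℤ]
    exact Finset.dvd_prod_of_mem _ (Nat.mem_divisors.2 ⟨hdn, hn.ne'⟩)
  · rw [hc, eq_one_of_monic_natDegree_zero hR h0, mul_one]

/-- a linear factor of the characteristic polynomial of a matrix of finite order -/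
theorem linear_factor (hn : 0 < n) (N : Matrix (Fin l) (Fin l) ℤ) (hN : N ^ n = 1) {P R : ℤ[X]}
    (hc : N.charpoly = P * R) (hR : R.Monic) (h1 : R.natDegree = 1) :
    ∃ e : ℤ, (e = 1 ∨ e = -1) ∧ R = X - C e := by
  refine ⟨-R.coeff 0, ?_, ?_⟩
  swap
  · conv_lhs => rw [hR.eq_X_add_C h1]
    simp
  have hroot : (N.map (Int.castRingHom ℚ)).charpoly.IsRoot ((-R.coeff 0 : ℤ) : ℚ) := by
    rw [Matrix.charpoly_map, hc, Polynomial.map_mul]
    refine root_mul_left_of_isRoot _ ?_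
    conv_lhs => rw [hR.eq_X_add_C h1]
    simp
  have hMn : N.map (Int.castRingHom ℚ) ^ n = 1 := by
    rw [← RingHom.mapMatrix_apply, ← map_pow, hN, map_one]
  have h2 := root_pow_eq_one _ hMn hroot
  have h3 : (-R.coeff 0) ^ n = 1 := by exact_mod_cast h2
  exact Int.isUnit_iff.1 (IsUnit.of_pow_eq_one h3 hn.ne')

end

theorem excD4 : ∀ d k, (d, k) ∈ [(3, 2), (6, 2)] → ∀ π ∈ cD4.G.Wg, ∀ R : ℤ[X],
    (wm cD4 π).charpoly = cyclotomic d ℤ ^ k * R → R.Monic →
    k * Nat.totient d + R.natDegree = chevD4.rank → False := by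
  classical
  intro d k hmem π hπ R hc hR hdeg
  rw [show chevD4.rank = 4 from by decide +kernel] at hdeg
  simp only [List.mem_cons, Prod.mk.injEq, List.not_mem_nil, or_false] at hmem
  have h2 : Nat.totient d = 2 ∧ k = 2 ∧ (d = 3 ∨ d = 6) := by
    rcases hmem with ⟨rfl, rfl⟩ | ⟨rfl, rfl⟩ <;> decide
  refine no_cube_D4 hπ h2.2.2 ?_
  refine kill_full (n := Fintype.card cD4.G.Wg * d) ?_ (dvd_mul_left d _) _ ?_ hc hR ?_
  · exact Nat.mul_pos Fintype.card_pos (by omega)
  · rw [pow_mul, wm_pow_card cD4 hπ, one_pow]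
  · rw [h2.1, h2.2.1] at hdeg; omega

theorem excE6 : ∀ d k, (d, k) ∈ [(2, 5), (2, 6), (4, 3), (6, 3)] → ∀ π ∈ cE6.G.Wg, ∀ R : ℤ[X],
    (wm cE6 π).charpoly = cyclotomic d ℤ ^ k * R → R.Monic →
    k * Nat.totient d + R.natDegree = chevE6.rank → False := by
  classical
  intro d k hmem π hπ R hc hR hdeg
  rw [show chevE6.rank = 6 from by decide +kernel] at hdeg
  simp only [List.mem_cons, Prod.mk.injEq, List.not_mem_nil, or_false] at hmem
  set n := Fintype.card cE6.G.Wg * 12 with hn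
  have hn0 : 0 < n := Nat.mul_pos Fintype.card_pos (by norm_num)
  have hN : wm cE6 π ^ n = 1 := by rw [hn, pow_mul, wm_pow_card cE6 hπ, one_pow]
  have hd : d ∣ n := by
    refine Dvd.dvd.mul_left ?_ _
    rcases hmem with ⟨rfl, rfl⟩ | ⟨rfl, rfl⟩ | ⟨rfl, rfl⟩ | ⟨rfl, rfl⟩ <;> norm_num
  have htot : Nat.totient 2 = 1 ∧ Nat.totient 4 = 2 ∧ Nat.totient 6 = 2 := by decide
  rcases hmem with ⟨rfl, rfl⟩ | ⟨rfl, rfl⟩ | ⟨rfl, rfl⟩ | ⟨rfl, rfl⟩
  · obtain ⟨e, he, rfl⟩ := linear_factor hn0 (wm cE6 π) hN hc hR (by omega)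
    rcases he with rfl | rfl
    · have hf : aeval (wm cE6 π) ((X + 1) * (X - C (1 : ℤ))) = 0 := by
        refine aeval_eq_zero (j := 5) hn0 _ hN _ ?_ ?_
        · obtain ⟨c, hc'⟩ : (2 : ℕ) ∣ n := hd
          rw [show ((X + 1) * (X - C (1 : ℤ)) : ℤ[X]) = X ^ 2 - 1 by rw [map_one]; ring, hc', pow_mul]
          exact sub_one_dvd_pow_sub_one _ _
        · rw [hc, cyclotomic_two, mul_pow]
          exact mul_dvd_mul_left _ (dvd_pow_self _ (by norm_num))
      refine no_reflection_E6 hπ hc ?_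
      rw [map_one, map_mul, map_add, map_sub, aeval_X, map_one, add_mul, mul_sub, mul_one, one_mul] at hf
      rw [← sub_eq_zero, ← hf]
      abel
    · have hf : aeval (wm cE6 π) (cyclotomic 2 ℤ) = 0 := by
        refine aeval_eq_zero (j := 6) hn0 _ hN _ ?_ ?_
        · rw [← prod_cyclotomic_eq_X_pow_sub_one hn0 ℤ]
          exact Finset.dvd_prod_of_mem _ (Nat.mem_divisors.2 ⟨hd, hn0.ne'⟩)
        · rw [hc, cyclotomic_two, map_neg, map_one, sub_neg_eq_add, ← pow_succ]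
      have h := no_class_E6 hπ _ hf
      rw [cyclotomic_two] at h
      norm_num at h
      exact absurd h (by decide)
  · have h := no_class_E6 hπ _ (kill_full hn0 hd _ hN hc hR (by omega))
    rw [cyclotomic_two] at h
    norm_num at h
    exact absurd h (by decide)
  · have h := no_class_E6 hπ _ (kill_full hn0 hd _ hN hc hR (by omega))
    rw [show (4 : ℕ) = 2 ^ (1 + 1) by norm_num, cyclotomic_prime_pow_eq_geom_sum Nat.prime_two] at h
    norm_num [Finset.sum_range_succ] at h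
    exact absurd h (by decide)
  · have h := no_class_E6 hπ _ (kill_full hn0 hd _ hN hc hR (by omega))
    rw [cyclotomic_six] at h
    norm_num at h

theorem excE7 : ∀ d k, (d, k) ∈ [(4, 3)] → ∀ π ∈ cE7.G.Wg, ∀ R : ℤ[X],
    (wm cE7 π).charpoly = cyclotomic d ℤ ^ k * R → R.Monic →
    k * Nat.totient d + R.natDegree = chevE7.rank → False := by
  classical
  intro d k hmem π hπ R hc hR hdeg
  rw [show chevE7.rank = 7 from by decide +kernel] at hdeg
  simp only [List.mem_cons, Prod.mk.injEq, List.not_mem_nil, or_false] at hmem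
  obtain ⟨rfl, rfl⟩ := hmem
  set n := Fintype.card cE7.G.Wg * 4 with hn
  have hn0 : 0 < n := Nat.mul_pos Fintype.card_pos (by norm_num)
  have hN : wm cE7 π ^ n = 1 := by rw [hn, pow_mul, wm_pow_card cE7 hπ, one_pow]
  have htot : Nat.totient 4 = 2 := by decide
  obtain ⟨e, he, rfl⟩ := linear_factor hn0 (wm cE7 π) hN hc hR (by omega)
  have h4 : cyclotomic 4 ℤ = X ^ 2 + 1 := by
    rw [show (4 : ℕ) = 2 ^ (1 + 1) by norm_num, cyclotomic_prime_pow_eq_geom_sum Nat.prime_two]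
    simp [Finset.sum_range_succ, add_comm]
  have hf : aeval (wm cE7 π) ((X ^ 2 + 1) * (X - C e)) = 0 := by
    refine aeval_eq_zero (j := 3) hn0 _ hN _ ?_ ?_
    · have h1 : ((X : ℤ[X]) ^ 2 + 1) * (X - C e) ∣ X ^ 4 - 1 :=
        ⟨X + C e, by rcases he with rfl | rfl <;> simp only [map_neg, map_one] <;> ring⟩
      refine h1.trans ?_
      rw [hn, mul_comm, pow_mul]
      exact sub_one_dvd_pow_sub_one _ _
    · rw [hc, h4, mul_pow]
      exact mul_dvd_mul_left _ (dvd_pow_self _ (by norm_num))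
  refine no_fours_E7 hπ he hc ?_
  rw [map_mul, map_add, map_sub, map_pow, aeval_X, map_one, aeval_C, pow_two, mul_sub,
    sub_eq_zero] at hf
  rw [hf, Algebra.algebraMap_eq_smul_one, mul_smul_comm, mul_one]

variable {F : Type*} [Field F] [Fintype F]

theorem assemble {D : ChevalleyDatum} (C : Full D) {T : KerData D.rank} (hT : T.Ok (cmat D))
    (L : List ℕ) {exc : List (ℕ × ℕ)} (hdg : HasDegrees C (vecOfList L))
    (hL : List.ofFn (vecOfList L : Fin D.rank → ℕ) = L) (hchk : chkMult D.rank L exc = true)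
    (hpos : ∀ i : Fin D.rank, 0 < vecOfList L i) (hle : ∀ i : Fin D.rank, vecOfList L i < 31)
    (hexc : ∀ d k, (d, k) ∈ exc → ∀ π ∈ C.G.Wg, ∀ R : ℤ[X],
      (wm C π).charpoly = cyclotomic d ℤ ^ k * R → R.Monic →
      k * Nat.totient d + R.natDegree = D.rank → False)
    (hd2 : 2 ∣ L.prod) (hdk : T.d ∣ L.prod) {q : ℕ} (hq : Fintype.card F = q) (r : ℕ) [Fact r.Prime]
    (hrq : ¬ r ∣ q) (hrW : ¬ r ∣ L.prod) (hrG : r ∣ Nat.card ↥(D.group F))
    (P : Sylow r ↥(D.group F)) :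
    Nonempty (↥(P : Subgroup ↥(D.group F)) ≃*
      (Fin (L.filter (fun e => orderOf (q : ZMod r) ∣ e)).length →
        Multiplicative (ZMod (r ^ padicValNat r
          ((Polynomial.cyclotomic (orderOf (q : ZMod r)) ℤ).eval (q : ℤ)).natAbs)))) := by
  subst hq
  have hr2 : r ≠ 2 := fun h => hrW (h ▸ hd2)
  have hrdg : ∀ i : Fin D.rank, ¬ r ∣ vecOfList L i := fun i h => hrW (h.trans (List.dvd_prod (by
    have h' : vecOfList L i ∈ List.ofFn (vecOfList L : Fin D.rank → ℕ) := by simp [List.mem_ofFn]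
    rwa [hL] at h')))
  have h := sylow_homocyclic C hT hdg (fun h => hrW (h.trans hdk)) hrdg hrq hr2 hrG
    (mult_of_chk C hL hchk hpos hle hexc) P
  rw [cnt_eq _ L hL] at h
  rw [CfsgLib.Classical.LargePrime.ee_eq Fintype.one_lt_card hrq]
  exact h

end CfsgLib.Lie.Homocyclic
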