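import Cfsg.Agent.Lib.Lie.Chev.CoxTorus.WMat

/-!
# The invariant form and the fixed classes of the Weyl group on the root lattice
-/

set_option autoImplicit false

namespace CfsgLib.Lie.Homocyclic

open Cfsg.Lie CfsgLib.Lie.Chev CfsgLib.Lie.CoxTorus
open Matrix Polynomial

variable {D : ChevalleyDatum} (C : Full D)

/-- the Cartan matrix read from the tables -/
def cM : Matrix (Fin D.rank) (Fin D.rank) ℤ := Matrix.of fun i j => cart D i (C.G.simp' j)

/-- the bilinear form of the Cartan matrix -/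
def bil (u v : Fin D.rank → ℤ) : ℤ := u ⬝ᵥ (cM C *ᵥ v)

/-- a property of the matrices of the Weyl group, proved on the fundamental reflections -/
theorem wm_induction {P : Matrix (Fin D.rank) (Fin D.rank) ℤ → Prop} (h1 : P 1)
    (hmul : ∀ i M, P M → P (M * wm C (C.G.sP i))) {π : Equiv.Perm (Fin D.nroots)} (hπ : π ∈ C.G.Wg) :
    P (wm C π) := by
  obtain ⟨l, rfl⟩ := C.G.exists_pw hπ
  clear hπ
  induction l with
  | nil => rw [C.G.pw_nil, wm_one]; exact h1
  | cons i l ih =>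
    rw [C.G.pw_cons, wm_mul C (show C.G.sP i ∈ C.G.Wg by rw [← C.G.pw_single]; exact C.G.pw_mem [i])]
    exact hmul i _ ih

/-- the form is invariant -/
theorem form_invariant
    (hsimp : ∀ i, wm C (C.G.sP i) * cM C * (wm C (C.G.sP i))ᵀ = cM C)
    {π : Equiv.Perm (Fin D.nroots)} (hπ : π ∈ C.G.Wg) : wm C π * cM C * (wm C π)ᵀ = cM C := by
  refine wm_induction C (P := fun M => M * cM C * Mᵀ = cM C) (by simp) (fun i M hM => ?_) hπ
  show M * wm C (C.G.sP i) * cM C * (M * wm C (C.G.sP i))ᵀ = cM C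
  rw [transpose_mul]
  calc M * wm C (C.G.sP i) * cM C * ((wm C (C.G.sP i))ᵀ * Mᵀ)
      = M * (wm C (C.G.sP i) * cM C * (wm C (C.G.sP i))ᵀ) * Mᵀ := by simp only [Matrix.mul_assoc]
    _ = _ := by rw [hsimp, hM]

/-- the class of `z` modulo `m` is fixed -/
theorem class_fixed {m : ℕ} (z : Fin D.rank → ℤ)
    (hsimp : ∀ i, (fun k => (z k : ZMod m)) ᵥ* red (ZMod m) (wm C (C.G.sP i)) = fun k => (z k : ZMod m))
    {π : Equiv.Perm (Fin D.nroots)} (hπ : π ∈ C.G.Wg) :
    (fun k => (z k : ZMod m)) ᵥ* red (ZMod m) (wm C π) = fun k => (z k : ZMod m) := by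
  refine wm_induction C
    (P := fun M => (fun k => (z k : ZMod m)) ᵥ* red (ZMod m) M = fun k => (z k : ZMod m)) (by simp)
    (fun i M hM => ?_) hπ
  show (fun k => (z k : ZMod m)) ᵥ* red (ZMod m) (M * wm C (C.G.sP i)) = _
  rw [map_mul, ← vecMul_vecMul, hM, hsimp]

variable {l : ℕ}

theorem vecMul_pow_fixed {R : Type*} [CommRing R] {M : Matrix (Fin l) (Fin l) R} {e : Fin l → R}
    (h : e ᵥ* M = e) (k : ℕ) : e ᵥ* M ^ k = e := by
  induction k with
  | zero => simp
  | succ k ih => rw [pow_succ, ← vecMul_vecMul, ih, h]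

theorem vecMul_aeval_fixed {R : Type*} [CommRing R] {M : Matrix (Fin l) (Fin l) R} {e : Fin l → R}
    (h : e ᵥ* M = e) (p : R[X]) : e ᵥ* aeval M p = p.eval 1 • e := by
  induction p using Polynomial.induction_on' with
  | add p q hp hq => rw [map_add, vecMul_add, hp, hq, eval_add, add_smul]
  | monomial k a =>
    rw [aeval_monomial, ← Algebra.smul_def, vecMul_smul, vecMul_pow_fixed h, eval_monomial, one_pow,
      mul_one]

/-- a polynomial killing `N` cannot be non-zero at one on a fixed class -/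
theorem fixed_class_eval {m : ℕ} (N : Matrix (Fin l) (Fin l) ℤ) (f : ℤ[X]) (hf : aeval N f = 0)
    (z : Fin l → ℤ) (hz : (fun k => (z k : ZMod m)) ᵥ* red (ZMod m) N = fun k => (z k : ZMod m))
    (a : Fin l) : ((f.eval 1 * z a : ℤ) : ZMod m) = 0 := by
  have h := congrFun (vecMul_aeval_fixed hz (f.map (Int.castRingHom (ZMod m)))) a
  rw [← red_aeval, hf, map_zero, vecMul_zero, Pi.zero_apply, Pi.smul_apply, smul_eq_mul] at h
  rw [h, Int.cast_mul]
  congr 1
  rw [← map_one (Int.castRingHom (ZMod m)), eval_map_apply]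
  rfl

theorem vecMul_red {R : Type*} [CommRing R] (z : Fin l → ℤ) (M : Matrix (Fin l) (Fin l) ℤ) :
    (fun k => (((z ᵥ* M) k : ℤ) : R)) = (fun k => (z k : R)) ᵥ* red R M := by
  funext k
  simp [vecMul, dotProduct, red_apply]

variable (hinv : ∀ π ∈ C.G.Wg, wm C π * cM C * (wm C π)ᵀ = cM C)
include hinv

theorem bil_invariant {π : Equiv.Perm (Fin D.nroots)} (hπ : π ∈ C.G.Wg) (u v : Fin D.rank → ℤ) :
    bil C (u ᵥ* wm C π) (v ᵥ* wm C π) = bil C u v := by
  rw [bil, bil, ← mulVec_transpose (wm C π) v, dotProduct_mulVec, vecMul_vecMul, dotProduct_mulVec,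
    vecMul_vecMul, hinv π hπ, ← dotProduct_mulVec]

omit hinv in
theorem rho_simp_vecMul {π : Equiv.Perm (Fin D.nroots)} (hπ : π ∈ C.G.Wg) (i : Fin D.rank) :
    (Pi.single i 1 : Fin D.rank → ℤ) ᵥ* wm C π = C.G.rho (π (C.G.simp' i)) := by
  rw [rho_perm C hπ, C.G.rho_simp]

end CfsgLib.Lie.Homocyclic
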